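import Cfsg.Agent.Lib.OmegaSeven.Defs
import Cfsg.Agent.Lib.CosetEnum.Merge

/-!
Kernel checks of the records, part 0.
-/

set_option autoImplicit false
set_option Elab.async false
set_option maxHeartbeats 4000000

namespace CfsgLib.OmegaSeven

open CfsgLib.CosetEnum

theorem uScan0_0 : allUp uOK' 10 0 = true := by decide +kernel
theorem uScan0_1 : allUp uOK' 10 1024 = true := by decide +kernel
theorem uScan0_2 : allUp uOK' 10 2048 = true := by decide +kernel
theorem uScan0_3 : allUp uOK' 10 3072 = true := by decide +kernel
theorem uScan0_4 : allUp uOK' 10 4096 = true := by decide +kernel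
theorem uScan0_5 : allUp uOK' 10 5120 = true := by decide +kernel
theorem uScan0_6 : allUp uOK' 10 6144 = true := by decide +kernel
theorem uScan0_7 : allUp uOK' 10 7168 = true := by decide +kernel

theorem uScan0 : allUp uOK' 13 0 = true :=
  allUp_merge (allUp_merge (allUp_merge uScan0_0 uScan0_1) (allUp_merge uScan0_2 uScan0_3)) (allUp_merge (allUp_merge uScan0_4 uScan0_5) (allUp_merge uScan0_6 uScan0_7))

end CfsgLib.OmegaSeven
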