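import Cfsg.Agent.Lib.OmegaSeven.Defs
import Cfsg.Agent.Lib.CosetEnum.Merge

/-!
Kernel checks of the records, part 1.
-/

set_option autoImplicit false
set_option Elab.async false
set_option maxHeartbeats 4000000

namespace CfsgLib.OmegaSeven

open CfsgLib.CosetEnum

theorem uScan1_0 : allUp uOK' 10 8192 = true := by decide +kernel
theorem uScan1_1 : allUp uOK' 10 9216 = true := by decide +kernel
theorem uScan1_2 : allUp uOK' 10 10240 = true := by decide +kernel
theorem uScan1_3 : allUp uOK' 10 11264 = true := by decide +kernel
theorem uScan1_4 : allUp uOK' 10 12288 = true := by decide +kernel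
theorem uScan1_5 : allUp uOK' 10 13312 = true := by decide +kernel
theorem uScan1_6 : allUp uOK' 10 14336 = true := by decide +kernel
theorem uScan1_7 : allUp uOK' 10 15360 = true := by decide +kernel

theorem uScan1 : allUp uOK' 13 8192 = true :=
  allUp_merge (allUp_merge (allUp_merge uScan1_0 uScan1_1) (allUp_merge uScan1_2 uScan1_3)) (allUp_merge (allUp_merge uScan1_4 uScan1_5) (allUp_merge uScan1_6 uScan1_7))

end CfsgLib.OmegaSeven
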