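import Cfsg.Agent.Lib.OmegaSeven.Defs
import Cfsg.Agent.Lib.CosetEnum.Merge

/-!
Kernel checks of the records, part 2.
-/

set_option autoImplicit false
set_option Elab.async false
set_option maxHeartbeats 4000000

namespace CfsgLib.OmegaSeven

open CfsgLib.CosetEnum

theorem uScan2_0 : allUp uOK' 10 16384 = true := by decide +kernel
theorem uScan2_1 : allUp uOK' 10 17408 = true := by decide +kernel
theorem uScan2_2 : allUp uOK' 10 18432 = true := by decide +kernel
theorem uScan2_3 : allUp uOK' 10 19456 = true := by decide +kernel
theorem uScan2_4 : allUp uOK' 10 20480 = true := by decide +kernel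
theorem uScan2_5 : allUp uOK' 10 21504 = true := by decide +kernel
theorem uScan2_6 : allUp uOK' 10 22528 = true := by decide +kernel
theorem uScan2_7 : allUp uOK' 10 23552 = true := by decide +kernel

theorem uScan2 : allUp uOK' 13 16384 = true :=
  allUp_merge (allUp_merge (allUp_merge uScan2_0 uScan2_1) (allUp_merge uScan2_2 uScan2_3)) (allUp_merge (allUp_merge uScan2_4 uScan2_5) (allUp_merge uScan2_6 uScan2_7))

end CfsgLib.OmegaSeven
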