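import Cfsg.Agent.Lib.OmegaSeven.Checks
import Cfsg.Agent.Lib.OmegaSeven.Scan0
import Cfsg.Agent.Lib.OmegaSeven.Scan1
import Cfsg.Agent.Lib.OmegaSeven.Scan2
import Cfsg.Agent.Lib.Classical.OrthOrderStd
import Cfsg.Agent.Lib.Classical.OrthCenter
import Cfsg.Agent.Lib.Classical.OmegaOnto
import Cfsg.Agent.Lib.Spectrum.OmegaNine.Targets

/-!
The seven classes of subgroups of order three of the seven-dimensional orthogonal group over three
elements.
-/

set_option autoImplicit false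

namespace CfsgLib.OmegaSeven

open Matrix CfsgLib.CosetEnum

/-- `Ω` -/
abbrev Om : Subgroup O7 := Cfsg.Omega (ZMod 3) form

theorem exists_quad : ∃ Q : QuadraticForm (ZMod 3) (Idx → ZMod 3),
    ⇑Q = form ∧ CfsgLib.Orth.Nondeg Q :=
  CfsgLib.Orth.exists_quadForm_odd (by decide) 3

theorem two_ne : (2 : ZMod 3) ≠ 0 := by decide

theorem finrank_idx : Module.finrank (ZMod 3) (Idx → ZMod 3) = 7 := by simp

theorem card_O7 : Nat.card O7 = 18341406720 := by
  obtain ⟨Q, hQ, hB⟩ := exists_quad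
  have h := CfsgLib.Orth.card_orth_odd two_ne 3 hQ hB
  rw [Nat.card_zmod] at h
  have e : Nat.card (CfsgLib.Orth.Grp Q) = Nat.card O7 := by
    show Nat.card (Cfsg.isometryGroup (ZMod 3) ⇑Q) = _
    rw [hQ]
  rw [e] at h
  rw [h]
  simp [Finset.prod_range_succ]

theorem index_Om : Om.index = 4 := by
  obtain ⟨Q, hQ, hB⟩ := exists_quad
  have h := CfsgLib.Orth.index_omega_odd hB two_ne (by rw [finrank_idx]; norm_num)
  rwa [hQ] at h

theorem card_Om : Nat.card Om = 4585351680 := by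
  have h := Om.index_mul_card
  rw [index_Om, card_O7] at h
  omega

theorem mem_Om {g : O7} (hg : g ^ 3 = 1) : g ∈ Om := by
  obtain ⟨Q, hQ, hB⟩ := exists_quad
  have key : ∀ (f : (Idx → ZMod 3) → ZMod 3), ⇑Q = f →
      ∀ g : Cfsg.isometryGroup (ZMod 3) f, g ^ 3 = 1 → g ∈ Cfsg.Omega (ZMod 3) f := by
    rintro f rfl g hg
    refine CfsgLib.Spectrum.OmegaNine.mem_omega_of_odd_order hB two_ne
      (by rw [finrank_idx]; norm_num) ?_
    rcases (Nat.dvd_prime Nat.prime_three).mp (orderOf_dvd_of_pow_eq_one hg) with h | h <;>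
      simp [h, Nat.odd_iff]
  exact key form hQ g hg

/-- generator number `k` -/
noncomputable def gen (k : Fin 6) : O7 := (exists_coded (gens_iso k k.2)).choose

theorem gen_coded (k : Fin 6) : Coded (gen k) (gM k) :=
  (exists_coded (gens_iso k k.2)).choose_spec.1

theorem gen_cube (k : Fin 6) : gen k ^ 3 = 1 := (exists_coded (gens_iso k k.2)).choose_spec.2

theorem gen_mem (k : Fin 6) : gen k ∈ Om := mem_Om (gen_cube k)

theorem gen_inv (k : Fin 6) : (gen k)⁻¹ = gen k * gen k := by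
  refine inv_eq_of_mul_eq_one_right ?_
  rw [← gen_cube k, pow_succ, pow_two, mul_assoc]

theorem reps_isoB (i : Fin 7) : isoB (rM i) = true := by
  have := reps_iso i i.2
  rw [Bool.and_eq_true] at this
  exact this.1

/-- representative number `i` -/
noncomputable def rep (i : Fin 7) : O7 := (exists_coded (reps_isoB i)).choose

theorem rep_coded (i : Fin 7) : Coded (rep i) (rM i) :=
  (exists_coded (reps_isoB i)).choose_spec.1

theorem rep_cube (i : Fin 7) : rep i ^ 3 = 1 := (exists_coded (reps_isoB i)).choose_spec.2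

theorem rep_mem (i : Fin 7) : rep i ∈ Om := mem_Om (rep_cube i)

theorem rep_ne_one (i : Fin 7) : rep i ≠ 1 := fun h => by
  have := reps_iso i i.2
  simp only [isE, Bool.and_eq_true, bne_iff_ne, ne_eq] at this
  exact this.2.1 ((rep_coded i).code_eq (h ▸ coded_one))

/-! ### The Sylow subgroup -/

theorem uOK_all (i : ℕ) (hi : i < 19683) : uOK i = true := by
  have h : uOK' i = true := by
    by_cases h0 : i < 8192
    · exact allUp_spec uScan0 i (Nat.zero_le _) (by norm_num; omega)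
    by_cases h1 : i < 16384
    · exact allUp_spec uScan1 i (by omega) (by norm_num; omega)
    exact allUp_spec uScan2 i (by omega) (by norm_num; omega)
  unfold uOK' at h
  rwa [show Nat.blt i 19683 = true by rw [Nat.blt_eq]; exact hi, cond_true] at h

/-- the meaning of a record -/
structure URec (i : ℕ) : Prop where
  valid : Valid (uCode i)
  img : ∀ a < 3, ∃ j < 19683, uCode j = mmul (gM a) (uCode i)
  tree : uCode i = idM ∨ ∃ p < 19683, ∃ a < 3,
    fld (uRec p) 160 6 < fld (uRec i) 160 6 ∧ uCode i = mmul (gM a) (uCode p)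
  cls : isE (uCode i) = true → fld (uRec i) 192 3 < 7 ∧ (uCode i = rM (fld (uRec i) 192 3) ∨
    ∃ p < 19683, ∃ g < 6, fld (uRec p) 184 8 < fld (uRec i) 184 8 ∧
      fld (uRec p) 192 3 = fld (uRec i) 192 3 ∧ isE (uCode p) = true ∧
      uCode p = mmul (gM g) (mmul (uCode i) (mmul (gM g) (gM g))))
  sorted : i = 0 ∨ uCode (i - 1) < uCode i

theorem uSpec {i : ℕ} (hi : i < 19683) : URec i := by
  have h := uOK_all i hi
  unfold uOK at h
  simp only [strict_eq] at h
  change (validB (uCode i) && _ && _ && _ && _) = true at h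
  simp only [Bool.and_eq_true, Bool.or_eq_true, List.all_eq_true, List.mem_range, beq_iff_eq,
    Nat.blt_eq, Bool.not_eq_true'] at h
  obtain ⟨⟨⟨⟨h1, h2⟩, h3⟩, h4⟩, h5⟩ := h
  refine ⟨valid_of_validB h1, fun a ha => ⟨_, (h2 a ha).1, (h2 a ha).2⟩, ?_, ?_, ?_⟩
  · rcases h3 with h3 | ⟨⟨⟨hp, ha⟩, hd⟩, he⟩
    · exact Or.inl h3
    · exact Or.inr ⟨_, hp, _, ha, hd, he⟩
  · intro hE
    rcases h4 with h4 | ⟨hc, h4⟩
    · rw [uCode] at hE; rw [hE] at h4; cases h4
    · refine ⟨hc, ?_⟩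
      rcases h4 with h4 | ⟨⟨⟨⟨⟨hp, hg⟩, hd⟩, he⟩, hE'⟩, hcode⟩
      · exact Or.inl h4
      · exact Or.inr ⟨_, hp, _, hg, hd, he, hE', hcode⟩
  · rcases h5 with h5 | h5
    · exact Or.inl (Nat.eq_of_beq_eq_true h5)
    · exact Or.inr h5

theorem uCode_lt : ∀ {i j : ℕ}, i < j → j < 19683 → uCode i < uCode j
  | i, 0, h, _ => absurd h (Nat.not_lt_zero _)
  | i, j + 1, h, hj => by
    have hs : uCode j < uCode (j + 1) := (uSpec hj).sorted.resolve_left (Nat.succ_ne_zero j)
    rcases Nat.lt_succ_iff_lt_or_eq.mp h with h' | rfl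
    · exact (uCode_lt h' (by omega)).trans hs
    · exact hs

/-- the Sylow subgroup -/
noncomputable def U : Subgroup O7 :=
  Subgroup.closure (Set.range fun a : Fin 3 => gen (Fin.castLE (by norm_num) a))

theorem gen_mem_U (a : ℕ) (ha : a < 3) : gen ⟨a, by omega⟩ ∈ U :=
  Subgroup.subset_closure ⟨⟨a, ha⟩, rfl⟩

theorem U_le : U ≤ Om := by
  rw [U, Subgroup.closure_le]
  rintro _ ⟨a, rfl⟩
  exact gen_mem _

theorem exists_elt : ∀ (d i : ℕ), i < 19683 → fld (uRec i) 160 6 = d →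
    ∃ u ∈ U, Coded u (uCode i) := by
  intro d
  induction d using Nat.strong_induction_on with
  | _ d ih =>
    intro i hi hd
    rcases (uSpec hi).tree with h | ⟨p, hp, a, ha, hlt, he⟩
    · exact ⟨1, one_mem _, h ▸ coded_one⟩
    · obtain ⟨u, hu, huc⟩ := ih _ (hd ▸ hlt) p hp rfl
      exact ⟨_, mul_mem (gen_mem_U a ha) hu, he ▸ (gen_coded ⟨a, by omega⟩).mul huc⟩

theorem exists_index {u : O7} (hu : u ∈ U) : ∃ i < 19683, Coded u (uCode i) := by
  have step : ∀ (a : Fin 3) (y : O7), (∃ i < 19683, Coded y (uCode i)) →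
      ∃ i < 19683, Coded (gen (Fin.castLE (by norm_num) a) * y) (uCode i) := by
    rintro a y ⟨i, hi, hy⟩
    obtain ⟨j, hj, e⟩ := (uSpec hi).img a a.2
    exact ⟨j, hj, e ▸ (gen_coded _).mul hy⟩
  induction hu using Subgroup.closure_induction_left with
  | one => exact ⟨0, by norm_num, id_code ▸ coded_one⟩
  | mul_left x hx y hy ih =>
    obtain ⟨a, rfl⟩ := hx
    exact step a y ih
  | inv_mul_cancel x hx y hy ih =>
    obtain ⟨a, rfl⟩ := hx
    rw [gen_inv, mul_assoc]
    exact step a _ (step a y ih)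

theorem card_U : Nat.card U = 19683 := by
  choose u hu huc using fun i : Fin 19683 => exists_elt _ i i.2 rfl
  have hb : Function.Bijective (fun i : Fin 19683 => (⟨u i, hu i⟩ : U)) := by
    constructor
    · intro i j h
      have h' : u i = u j := congrArg Subtype.val h
      have e := (huc i).code_eq (h' ▸ huc j)
      rcases lt_trichotomy (i : ℕ) j with hl | hl | hl
      · exact absurd e (uCode_lt hl j.2).ne
      · exact Fin.ext hl
      · exact absurd e.symm (uCode_lt hl i.2).ne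
    · rintro ⟨x, hx⟩
      obtain ⟨i, hi, hc⟩ := exists_index hx
      exact ⟨⟨i, hi⟩, Subtype.ext ((huc ⟨i, hi⟩).eq hc)⟩
  rw [← Nat.card_eq_of_bijective _ hb, Nat.card_fin]

theorem conj_to_rep : ∀ (d i : ℕ), i < 19683 → fld (uRec i) 184 8 = d → isE (uCode i) = true →
    ∀ u : O7, Coded u (uCode i) →
      ∃ w ∈ Om, ∃ k : Fin 7, (k : ℕ) = fld (uRec i) 192 3 ∧ w * u * w⁻¹ = rep k := by
  intro d
  induction d using Nat.strong_induction_on with
  | _ d ih =>
    intro i hi hd hE u hu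
    obtain ⟨hc, h | ⟨p, hp, g, hg, hlt, hcls, hEp, he⟩⟩ := (uSpec hi).cls hE
    · refine ⟨1, one_mem _, ⟨_, hc⟩, rfl, ?_⟩
      rw [one_mul, inv_one, mul_one]
      exact hu.eq (h ▸ rep_coded ⟨_, hc⟩)
    · have hg' := gen_coded ⟨g, hg⟩
      have hconj : Coded (gen ⟨g, hg⟩ * (u * (gen ⟨g, hg⟩ * gen ⟨g, hg⟩))) (uCode p) :=
        he ▸ hg'.mul (hu.mul (hg'.mul hg'))
      obtain ⟨w, hw, k, hk, e⟩ := ih _ (hd ▸ hlt) p hp rfl hEp _ hconj
      refine ⟨w * gen ⟨g, hg⟩, mul_mem hw (gen_mem _), k, hk.trans hcls, ?_⟩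
      rw [← e, ← gen_inv]
      group

theorem complete {x : O7} (hx : x ∈ Om) (h3 : x ^ 3 = 1) (h1 : x ≠ 1) :
    ∃ w ∈ Om, ∃ k : Fin 7, w * x * w⁻¹ = rep k := by
  have : Fact (Nat.Prime 3) := ⟨Nat.prime_three⟩
  have hW : Nat.card (U.subgroupOf Om) = 3 ^ 9 := by
    rw [Nat.card_congr (Subgroup.subgroupOfEquivOfLe U_le).toEquiv, card_U]; norm_num
  have hWp : IsPGroup 3 (U.subgroupOf Om) := IsPGroup.of_card hW
  have hWi : ¬ 3 ∣ (U.subgroupOf Om).index := by
    have h := (U.subgroupOf Om).card_mul_index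
    rw [hW, card_Om] at h
    intro hd
    obtain ⟨m, hm⟩ := hd
    omega
  have hZp : IsPGroup 3 (Subgroup.zpowers (⟨x, hx⟩ : Om)) := by
    refine IsPGroup.of_card (n := 1) ?_
    rw [Nat.card_zpowers, pow_one]
    exact orderOf_eq_prime (Subtype.ext h3) fun h => h1 (congrArg Subtype.val h)
  obtain ⟨P, hP⟩ := hZp.exists_le_sylow
  obtain ⟨g, hg⟩ := MulAction.exists_smul_eq Om P (hWp.toSylow hWi)
  have hmem : g * (⟨x, hx⟩ : Om) * g⁻¹ ∈ U.subgroupOf Om := by
    have h' : MulAut.conj g (⟨x, hx⟩ : Om) ∈ ((g • P : Sylow 3 Om) : Subgroup Om) := by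
      rw [Sylow.coe_subgroup_smul]
      exact Subgroup.smul_mem_pointwise_smul _ (MulAut.conj g) _ (hP (Subgroup.mem_zpowers _))
    rw [hg] at h'
    exact h'
  obtain ⟨i, hi, hc⟩ := exists_index (Subgroup.mem_subgroupOf.mp hmem)
  set y : O7 := ((g * (⟨x, hx⟩ : Om) * g⁻¹ : Om) : O7)
  have hy : y = (g : O7) * x * (g : O7)⁻¹ := rfl
  have hy3 : y ^ 3 = 1 := by rw [hy, conj_pow, h3, mul_one, mul_inv_cancel]
  have hy1 : y ≠ 1 := by
    rw [hy, ne_eq, conj_eq_one_iff]; exact h1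
  have hE : isE (uCode i) = true := by
    simp only [isE, Bool.and_eq_true, bne_iff_ne, beq_iff_eq]
    refine ⟨fun e => hy1 (hc.eq (e ▸ coded_one)), ?_⟩
    have h := hc.mul (hc.mul hc)
    rw [show y * (y * y) = 1 by rw [← mul_assoc, ← pow_two, ← pow_succ]; exact hy3] at h
    exact h.code_eq coded_one
  obtain ⟨w, hw, k, -, e⟩ := conj_to_rep _ i hi rfl hE y hc
  refine ⟨w * g, mul_mem hw g.2, k, ?_⟩
  rw [← e, hy]
  group

theorem rep_sq (i : Fin 7) : ∃ w ∈ Om, w * (rep i * rep i) * w⁻¹ = rep i := by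
  have h := repSq_ok i i.2
  simp only [Bool.and_eq_true, Nat.blt_eq, beq_iff_eq] at h
  obtain ⟨⟨hi, he⟩, hc⟩ := h
  have hE : isE (uCode (repSq.getD i 0)) = true := by
    rw [he]
    simp only [isE, Bool.and_eq_true, bne_iff_ne, beq_iff_eq]
    have c2 := (rep_coded i).mul (rep_coded i)
    refine ⟨fun e => rep_ne_one i ?_, ?_⟩
    · have h2 : rep i * rep i = 1 := c2.eq (e ▸ coded_one)
      have h3 := rep_cube i
      rwa [pow_succ, pow_two, h2, one_mul] at h3
    · have h6 : rep i * rep i * (rep i * rep i * (rep i * rep i)) = 1 := by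
        have e : rep i * rep i * (rep i * rep i * (rep i * rep i)) = rep i ^ 3 * rep i ^ 3 := by
          simp only [pow_succ, pow_zero, one_mul, mul_assoc]
        rw [e, rep_cube, one_mul]
      exact (h6 ▸ c2.mul (c2.mul c2) : Coded (1 : O7) _).code_eq coded_one
  obtain ⟨w, hw, k, hk, e⟩ :=
    conj_to_rep _ _ hi rfl hE _ (he ▸ (rep_coded i).mul (rep_coded i))
  obtain rfl : k = i := Fin.ext (hk.trans hc)
  exact ⟨w, hw, e⟩

/-! ### Invariants -/

/-- the invariants of an element -/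
noncomputable def sigG (g : O7) : List ℕ :=
  [Nat.card {v : Idx → ZMod 3 // matOf g *ᵥ v = v},
    Nat.card {v : Idx → ZMod 3 // form (matOf g *ᵥ v - v) = 1},
    Nat.card {v : Idx → ZMod 3 // form (matOf g *ᵥ v - v) = 2},
    Nat.card {v : Idx → ZMod 3 //
      QuadraticMap.polar form v (matOf g *ᵥ (matOf g *ᵥ v - v) - (matOf g *ᵥ v - v)) = 1}]

theorem sigG_conj (g h : O7) : sigG (h * g * h⁻¹) = sigG g := by
  let e : (Idx → ZMod 3) ≃ (Idx → ZMod 3) :=
    { toFun := fun v => matOf h *ᵥ v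
      invFun := fun v => matOf h⁻¹ *ᵥ v
      left_inv := fun v => by
        show matOf h⁻¹ *ᵥ (matOf h *ᵥ v) = v
        rw [Matrix.mulVec_mulVec, ← matOf_mul, inv_mul_cancel, matOf_one, Matrix.one_mulVec]
      right_inv := fun v => by
        show matOf h *ᵥ (matOf h⁻¹ *ᵥ v) = v
        rw [Matrix.mulVec_mulVec, ← matOf_mul, mul_inv_cancel, matOf_one, Matrix.one_mulVec] }
  have hc : ∀ v, matOf (h * g * h⁻¹) *ᵥ e v = e (matOf g *ᵥ v) := fun v => by
    show matOf (h * g * h⁻¹) *ᵥ (matOf h *ᵥ v) = matOf h *ᵥ (matOf g *ᵥ v)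
    rw [Matrix.mulVec_mulVec, Matrix.mulVec_mulVec, ← matOf_mul, ← matOf_mul,
      inv_mul_cancel_right]
  have hs : ∀ v w, e v - e w = e (v - w) := fun v w => by
    show matOf h *ᵥ v - matOf h *ᵥ w = matOf h *ᵥ (v - w)
    rw [Matrix.mulVec_sub]
  unfold sigG
  refine congrArg₂ List.cons ?_ (congrArg₂ List.cons ?_ (congrArg₂ List.cons ?_
    (congrArg₂ List.cons ?_ rfl)))
  · exact (Nat.card_congr (e.subtypeEquiv fun v => by rw [hc, e.apply_eq_iff_eq])).symm
  · exact (Nat.card_congr (e.subtypeEquiv fun v => by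
      rw [hc, hs, show form (e _) = _ from form_matOf h _])).symm
  · exact (Nat.card_congr (e.subtypeEquiv fun v => by
      rw [hc, hs, show form (e _) = _ from form_matOf h _])).symm
  exact (Nat.card_congr (e.subtypeEquiv fun v => by
    rw [hc, hs, hc, hs, show QuadraticMap.polar form (e v) (e _) = _ from polar_matOf h v _])).symm

theorem card_eq_countP (P : (Idx → ZMod 3) → Prop) (p : ℕ → Bool)
    (h : ∀ n < 2187, P (toV n) ↔ p n = true) :
    Nat.card {v // P v} = (List.range 2187).countP p := by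
  classical
  let e : Fin 2187 ≃ (Idx → ZMod 3) := Equiv.ofBijective (fun n => toV n.val)
    ⟨fun a b hab => Fin.ext (toV_inj a.2 b.2 hab),
      fun v => let ⟨n, hn, hv⟩ := toV_surj v; ⟨⟨n, hn⟩, hv⟩⟩
  rw [← Nat.card_congr (e.subtypeEquiv (p := fun n => p n.val = true) fun n => (h n n.2).symm),
    Nat.card_eq_fintype_card, Fintype.card_subtype, List.countP_eq_length_filter,
    ← Finset.card_map Fin.valEmbedding]
  have e2 : ((List.range 2187).filter p).length =
      ((Finset.range 2187).filter fun n => p n = true).card := by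
    rw [← List.toFinset_range, ← List.toFinset_filter,
      List.toFinset_card_of_nodup (List.nodup_range.filter _)]
  rw [e2]
  refine congrArg Finset.card ?_
  ext y
  simp only [Finset.mem_map, Finset.mem_filter, Finset.mem_univ, true_and,
    Fin.valEmbedding_apply, Finset.mem_range]
  exact ⟨fun ⟨z, hz, e⟩ => e ▸ ⟨z.2, hz⟩, fun ⟨h1, h2⟩ => ⟨⟨y, h1⟩, h2, rfl⟩⟩

theorem cast_eq_iff {a b : ℕ} (ha : a < 3) (hb : b < 3) :
    (a : ZMod 3) = (b : ZMod 3) ↔ a = b := by
  rw [ZMod.natCast_eq_natCast_iff', Nat.mod_eq_of_lt ha, Nat.mod_eq_of_lt hb]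

theorem qC_lt (n : ℕ) : qC n < 3 := Nat.mod_lt _ (by norm_num)

theorem bC_lt (u w : ℕ) : bC u w < 3 := Nat.mod_lt _ (by norm_num)

theorem sigG_eq {g : O7} {c : ℕ} (hc : Coded g c) : sigG g = sigC c := by
  have hd : ∀ n < 2187, matOf g *ᵥ toV n - toV n = toV (subV (actV c n) n) := fun n hn => by
    rw [hc.act hn, (subV_spec _ _).2]
  unfold sigG sigC
  refine congrArg₂ List.cons ?_ (congrArg₂ List.cons ?_ (congrArg₂ List.cons ?_
    (congrArg₂ List.cons ?_ rfl)))
  · refine card_eq_countP _ _ fun n hn => ?_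
    rw [hc.act hn, beq_iff_eq]
    exact ⟨fun h => toV_inj (actV_lt _ _) hn h, fun h => by rw [h]⟩
  · refine card_eq_countP _ _ fun n hn => ?_
    rw [hd n hn, form_toV, beq_iff_eq]
    exact cast_eq_iff (b := 1) (qC_lt _) (by norm_num)
  · refine card_eq_countP _ _ fun n hn => ?_
    rw [hd n hn, form_toV, beq_iff_eq]
    exact cast_eq_iff (b := 2) (qC_lt _) (by norm_num)
  refine card_eq_countP _ _ fun n hn => ?_
  rw [hd n hn, hc.act (subV_spec _ _).1, ← (subV_spec _ _).2, polar_toV, beq_iff_eq]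
  exact cast_eq_iff (b := 1) (bC_lt _ _) (by norm_num)

theorem sig_rep {i j : Fin 7} {w : O7} (h : w * rep i * w⁻¹ = rep j) :
    i = j ∨ (i = 4 ∧ j = 6) ∨ (i = 6 ∧ j = 4) := by
  have e : sigC (rM i) = sigC (rM j) := by
    rw [← sigG_eq (rep_coded i), ← sigG_eq (rep_coded j), ← h, sigG_conj]
  have hl : ∀ k : Fin 7, sigC (rM k) = ((List.range 7).map fun i => sigC (rM i)).getD k [] := by
    intro k
    rw [List.getD_eq_getElem _ _ (by simp)]
    simp
  rw [hl i, hl j, sigs_eq] at e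
  revert e
  fin_cases i <;> fin_cases j <;> decide

/-! ### The centralizer of representative four -/

/-- `±Ω` -/
def PM : Subgroup O7 where
  carrier := {g | g ∈ Om ∨ negOne * g ∈ Om}
  mul_mem' := by
    rintro a b (ha | ha) (hb | hb)
    · exact Or.inl (mul_mem ha hb)
    · refine Or.inr ?_
      rw [← mul_assoc, negOne_comm, mul_assoc]
      exact mul_mem ha hb
    · exact Or.inr (by rw [← mul_assoc]; exact mul_mem ha hb)
    · refine Or.inl ?_
      have e : negOne * a * (negOne * b) = a * b := by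
        rw [negOne_comm a, mul_assoc, ← mul_assoc negOne negOne b, negOne_mul_negOne, one_mul]
      rw [← e]
      exact mul_mem ha hb
  one_mem' := Or.inl (one_mem _)
  inv_mem' := by
    rintro a (ha | ha)
    · exact Or.inl (inv_mem ha)
    · refine Or.inr ?_
      have : negOne * a⁻¹ = (negOne * a)⁻¹ := by
        rw [_root_.mul_inv_rev, inv_eq_of_mul_eq_one_right negOne_mul_negOne, negOne_comm]
      rw [this]
      exact inv_mem ha

theorem mem_PM {g : O7} : g ∈ PM ↔ g ∈ Om ∨ negOne * g ∈ Om := Iff.rfl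

theorem negOne_mem_PM : negOne ∈ PM := Or.inr (by rw [negOne_mul_negOne]; exact one_mem _)

theorem exists_not_PM : ∃ g : O7, g ∉ PM := by
  by_contra hc
  push Not at hc
  let f : Om × Bool → O7 := fun p => bif p.2 then negOne * p.1 else (p.1 : O7)
  have hf : Function.Surjective f := fun g => by
    rcases hc g with h | h
    · exact ⟨(⟨g, h⟩, false), rfl⟩
    · refine ⟨(⟨_, h⟩, true), ?_⟩
      show negOne * (negOne * g) = g
      rw [← mul_assoc, negOne_mul_negOne, one_mul]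
  have := Nat.card_le_card_of_surjective f hf
  rw [Nat.card_prod, card_Om, card_O7, Nat.card_eq_fintype_card, Fintype.card_bool] at this
  omega

/-- the element of a word -/
noncomputable def wordElt : List ℕ → O7
  | [] => 1
  | k :: w => (if h : k < 6 then gen ⟨k, h⟩ else 1) * wordElt w

theorem wordElt_coded : ∀ {w : List ℕ}, (∀ k ∈ w, k < 6) →
    Coded (wordElt w) (wordM w) ∧ wordElt w ∈ Om
  | [], _ => ⟨coded_one, one_mem _⟩
  | k :: w, hw => by
    rw [List.forall_mem_cons] at hw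
    obtain ⟨h1, h2⟩ := wordElt_coded hw.2
    simp only [wordElt, dif_pos hw.1, wordM]
    exact ⟨(gen_coded ⟨k, hw.1⟩).mul h1, mul_mem (gen_mem _) h2⟩

/-- centralising and fixing some vectors -/
def StageFix (F : List ℕ) (c : O7) : Prop :=
  c * rep 4 = rep 4 * c ∧ ∀ f ∈ F, matOf c *ᵥ toV f = toV f

theorem StageFix.mul {F : List ℕ} {a b : O7} (ha : StageFix F a) (hb : StageFix F b) :
    StageFix F (a * b) :=
  ⟨by rw [mul_assoc, hb.1, ← mul_assoc, ha.1, mul_assoc],
    fun f hf => by rw [matOf_mul, ← Matrix.mulVec_mulVec, hb.2 f hf, ha.2 f hf]⟩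

theorem StageFix.inv {F : List ℕ} {a : O7} (ha : StageFix F a) : StageFix F a⁻¹ := by
  refine ⟨?_, fun f hf => ?_⟩
  · have := ha.1
    calc a⁻¹ * rep 4 = a⁻¹ * (rep 4 * a) * a⁻¹ := by group
      _ = a⁻¹ * (a * rep 4) * a⁻¹ := by rw [this]
      _ = rep 4 * a⁻¹ := by group
  · conv_lhs => rw [← ha.2 f hf]
    rw [Matrix.mulVec_mulVec, ← matOf_mul, inv_mul_cancel, matOf_one, Matrix.one_mulVec]

theorem cKey_eq {F : List ℕ} {h : O7} (hh : StageFix F h) {n m : ℕ} (hn : n < 2187) (hm : m < 2187)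
    (e : toV m = matOf h *ᵥ toV n) : cKey (rM 4) F m = cKey (rM 4) F n := by
  have hr : Coded (rep 4) (rM 4) := rep_coded 4
  have hx : ∀ u u' : ℕ, u < 2187 → u' < 2187 → toV u' = matOf h *ᵥ toV u →
      toV (actV (rM 4) u') = matOf h *ᵥ toV (actV (rM 4) u) := fun u u' hu hu' hu'' => by
    rw [← hr.act hu', hu'', Matrix.mulVec_mulVec, ← matOf_mul, ← hh.1, matOf_mul,
      ← Matrix.mulVec_mulVec, hr.act hu]
  have hs : ∀ u u' v v' : ℕ, toV u' = matOf h *ᵥ toV u → toV v' = matOf h *ᵥ toV v →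
      toV (subV u' v') = matOf h *ᵥ toV (subV u v) := fun u u' v v' h1 h2 => by
    rw [(subV_spec _ _).2, (subV_spec _ _).2, h1, h2, Matrix.mulVec_sub]
  have hq : ∀ u u' : ℕ, toV u' = matOf h *ᵥ toV u → qC u' = qC u := fun u u' h1 =>
    (cast_eq_iff (qC_lt _) (qC_lt _)).mp (by rw [← form_toV, ← form_toV, h1, form_matOf])
  have hb : ∀ u u' v v' : ℕ, toV u' = matOf h *ᵥ toV u → toV v' = matOf h *ᵥ toV v →
      bC u' v' = bC u v := fun u u' v v' h1 h2 =>
    (cast_eq_iff (bC_lt _ _) (bC_lt _ _)).mp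
      (by rw [← polar_toV, ← polar_toV, h1, h2, polar_matOf])
  have h0 : toV 0 = 0 := by funext a; simp [toV, vd]
  have hz : ∀ u u' : ℕ, u < 2187 → u' < 2187 → toV u' = matOf h *ᵥ toV u → nz u' = nz u := by
    intro u u' hu hu' h1
    have hiff : u' = 0 ↔ u = 0 := by
      constructor
      · rintro rfl
        refine toV_inj hu (by norm_num) ?_
        have := congrArg (fun v => matOf h⁻¹ *ᵥ v) h1
        simp only [h0, Matrix.mulVec_zero, Matrix.mulVec_mulVec, ← matOf_mul, inv_mul_cancel,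
          matOf_one, Matrix.one_mulVec] at this
        rw [← this, h0]
      · rintro rfl
        exact toV_inj hu' (by norm_num) (by rw [h1, h0, Matrix.mulVec_zero])
    unfold nz
    rcases u with _ | u <;> rcases u' with _ | u' <;>
      first
      | rfl
      | exact absurd (hiff.mpr rfl) (Nat.succ_ne_zero _)
      | exact absurd (hiff.mp rfl) (Nat.succ_ne_zero _)
  have x1 := hx n m hn hm e
  have x2 := hx _ _ (actV_lt _ _) (actV_lt _ _) x1
  have d1 := hs _ _ _ _ x1 e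
  have dx := hx _ _ (subV_spec _ _).1 (subV_spec _ _).1 d1
  have d2 := hs _ _ _ _ dx d1
  unfold cKey
  simp only [hq _ _ e, hb _ _ _ _ e x1, hz _ _ (subV_spec _ _).1 (subV_spec _ _).1 d2,
    hz _ _ (subV_spec _ _).1 (subV_spec _ _).1 d1]
  congr 1
  refine List.flatMap_congr fun f hf => ?_
  have ef : toV f = matOf h *ᵥ toV f := (hh.2 f hf).symm
  rw [hb _ _ _ _ e ef, hb _ _ _ _ x1 ef, hb _ _ _ _ x2 ef]

theorem stage {F : List ℕ} {base : ℕ} {gs : List (ℕ × List ℕ)} {orb : List (ℕ × ℕ × ℕ)}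
    (hB : stageB (rM 4) F base gs orb = true) {h : O7} (hh : StageFix F h) :
    ∃ c ∈ PM, StageFix (base :: F) (c * h) := by
  simp only [stageB, Bool.and_eq_true, List.all_eq_true, decide_eq_true_eq, beq_iff_eq,
    Nat.blt_eq, List.mem_range] at hB
  obtain ⟨⟨⟨hb, hg⟩, horb⟩, hcand⟩ := hB
  have hgen : ∀ p ∈ gs, ∃ c ∈ PM, StageFix F c ∧ Coded c (cgM p) := by
    intro p hp
    obtain ⟨⟨hw, hcomm⟩, hfix⟩ := hg p hp
    obtain ⟨hwc, hwm⟩ := wordElt_coded hw
    obtain ⟨c, hc, hcc⟩ : ∃ c ∈ PM, Coded c (cgM p) := by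
      unfold cgM
      cases Nat.beq p.1 1
      · exact ⟨_, Or.inl hwm, hwc⟩
      · exact ⟨_, mul_mem negOne_mem_PM (Or.inl hwm), coded_negOne.mul hwc⟩
    refine ⟨c, hc, ⟨(hcc.mul (rep_coded 4)).eq (hcomm ▸ (rep_coded 4).mul hcc), fun f hf => ?_⟩,
      hcc⟩
    obtain ⟨hf', hfe⟩ := hfix f hf
    rw [hcc.act hf', hfe]
  have reach : ∀ k, k < orb.length → (orb.getD k (0, 0, 0)).1 < 2187 ∧
      ∃ c ∈ PM, StageFix F c ∧ toV (orb.getD k (0, 0, 0)).1 = matOf c *ᵥ toV base := by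
    intro k
    induction k using Nat.strong_induction_on with
    | _ k ih =>
      intro hk
      have h := horb k hk
      rw [List.getD_eq_getElem _ _ hk]
      rw [List.getElem?_eq_getElem hk] at h
      rcases hp : orb[k] with ⟨pt, a, par⟩
      rw [hp] at h
      simp only [Bool.or_eq_true, Bool.and_eq_true, Nat.blt_eq, beq_iff_eq] at h
      rcases h with ⟨-, h2⟩ | ⟨⟨hpar, ha⟩, hpt⟩
      · obtain rfl := Nat.eq_of_beq_eq_true h2
        exact ⟨hb, 1, one_mem _, ⟨by simp, fun f _ => by simp⟩, by simp⟩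
      · obtain ⟨hlt, c, hc, hcf, hce⟩ := ih par hpar (by omega)
        have hmem : gs.getD a (0, []) ∈ gs := by
          rw [List.getD_eq_getElem _ _ ha]; exact List.getElem_mem ha
        obtain ⟨d, hd, hdf, hdc⟩ := hgen _ hmem
        refine ⟨by rw [hpt]; exact actV_lt _ _, d * c, mul_mem hd hc, hdf.mul hcf, ?_⟩
        rw [hpt, ← hdc.act hlt, hce, Matrix.mulVec_mulVec, matOf_mul]
  obtain ⟨m, hm, hme⟩ := toV_surj (matOf h *ᵥ toV base)
  have hk := cKey_eq hh hb hm hme
  have hin : m ∈ orb.map Prod.fst := by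
    have := hcand m hm
    simp only [Bool.or_eq_true, bne_iff_ne, ne_eq, hk, not_true_eq_false, false_or,
      List.contains_iff_mem] at this
    exact this
  obtain ⟨p, hp, hpe⟩ := List.mem_map.mp hin
  obtain ⟨k, hk', rfl⟩ := List.getElem_of_mem hp
  obtain ⟨-, c, hc, hcf, hce⟩ := reach k hk'
  rw [List.getD_eq_getElem _ _ hk', hpe, hme] at hce
  refine ⟨c⁻¹, inv_mem hc, ⟨(hcf.inv.mul hh).1, ?_⟩⟩
  rw [List.forall_mem_cons]
  refine ⟨?_, (hcf.inv.mul hh).2⟩
  rw [matOf_mul, ← Matrix.mulVec_mulVec, hce, Matrix.mulVec_mulVec, ← matOf_mul, inv_mul_cancel,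
    matOf_one, Matrix.one_mulVec]

theorem fix_all {h : O7} (hh : StageFix [9, 729, 243] h) : h = 1 := by
  have hvec : ∀ j, basisVecs.getD j 0 < 2187 ∧
      matOf h *ᵥ toV (basisVecs.getD j 0) = toV (basisVecs.getD j 0) := by
    intro j
    have hfold : ∀ (l : List ℕ) (v : ℕ), v < 2187 → matOf h *ᵥ toV v = toV v →
        l.foldl (fun v _ => actV (rM 4) v) v < 2187 ∧
          matOf h *ᵥ toV (l.foldl (fun v _ => actV (rM 4) v) v) =
            toV (l.foldl (fun v _ => actV (rM 4) v) v) := by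
      intro l
      induction l with
      | nil => exact fun v h1 h2 => ⟨h1, h2⟩
      | cons x l ih =>
        intro v h1 h2
        refine ih _ (actV_lt _ _) ?_
        have e4 := (rep_coded 4).act h1
        rw [show ((4 : Fin 7) : ℕ) = 4 from rfl] at e4
        show matOf h *ᵥ toV (actV (rM 4) v) = toV (actV (rM 4) v)
        rw [← e4, Matrix.mulVec_mulVec, ← matOf_mul, hh.1, matOf_mul,
          ← Matrix.mulVec_mulVec, h2]
    have h0 : matOf h *ᵥ toV 0 = toV 0 := by
      rw [show toV 0 = 0 by funext a; simp [toV, vd], Matrix.mulVec_zero]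
    by_cases hj : j < basisVecs.length
    · rw [List.getD_eq_getElem _ _ hj]
      simp only [basisVecs, List.getElem_map]
      have hb : ∀ k, cBase.getD k 0 < 2187 ∧ matOf h *ᵥ toV (cBase.getD k 0) = toV (cBase.getD k 0) := by
        intro k
        rcases k with _ | _ | _ | k
        · exact ⟨by decide, hh.2 729 (by simp)⟩
        · exact ⟨by decide, hh.2 243 (by simp)⟩
        · exact ⟨by decide, hh.2 9 (by simp)⟩
        · rw [List.getD_eq_default _ _ (by simp [cBase])]; exact ⟨by norm_num, h0⟩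
      exact hfold _ _ (hb _).1 (hb _).2
    · rw [List.getD_eq_default _ _ (by omega)]; exact ⟨by norm_num, h0⟩
  have hc := basis_ok
  simp only [Bool.and_eq_true, beq_iff_eq, List.all_eq_true, List.mem_range] at hc
  obtain ⟨⟨⟨v1, v2⟩, hinv⟩, hcol⟩ := hc
  have hP : matOf h * toM basisM = toM basisM := by
    ext a b
    have e : ∀ c, toM basisM c b = toV (basisVecs.getD (eI b) 0) c := fun c => by
      simp only [toM, toV, hcol _ (eI c).2 _ (eI b).2]
    rw [Matrix.mul_apply]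
    simp only [e]
    exact congrFun (hvec (eI b)).2 a
  refine matOf_injective ?_
  have := congrArg (fun M => M * toM cBasisInv) hP
  simpa [mul_assoc, ← toM_mmul (valid_of_validB v1) (valid_of_validB v2), hinv, toM_idM] using this

theorem cent_le_PM {h : O7} (hc : h * rep 4 = rep 4 * h) : h ∈ PM := by
  obtain ⟨a, ha, hA⟩ := stage stage0 (h := h) ⟨hc, by simp⟩
  obtain ⟨b, hb, hB⟩ := stage stage1 hA
  obtain ⟨c, hc', hC⟩ := stage stage2 (h := b * (a * h))
    ⟨hB.1, fun f hf => hB.2 f (by simp at hf ⊢; tauto)⟩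
  have e := fix_all hC
  have : h = (c * b * a)⁻¹ := eq_inv_of_mul_eq_one_right (by rw [← e]; group)
  rw [this]
  exact inv_mem (mul_mem (mul_mem hc' hb) ha)

theorem rep_separated {i j : Fin 7} {w : O7} (hw : w ∈ Om) (h : w * rep i * w⁻¹ = rep j) :
    i = j := by
  have no46 : ∀ v ∈ Om, v * rep 4 * v⁻¹ ≠ rep 6 := by
    intro v hv e
    obtain ⟨g, hg⟩ := exists_not_PM
    have hx : g * rep 4 * g⁻¹ ∈ Om := mem_Om (by rw [conj_pow, rep_cube, mul_one, mul_inv_cancel])
    obtain ⟨u, hu, k, hk⟩ := complete hx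
      (by rw [conj_pow, rep_cube, mul_one, mul_inv_cancel])
      (by rw [ne_eq, conj_eq_one_iff]; exact rep_ne_one 4)
    have hk' : u * g * rep 4 * (u * g)⁻¹ = rep k := by rw [← hk]; group
    have fixes : ∀ a ∈ PM, a * g * rep 4 * (a * g)⁻¹ = rep 4 → False := by
      intro a ha e2
      have hc : a * g * rep 4 = rep 4 * (a * g) := by rw [← mul_inv_eq_iff_eq_mul, e2]
      exact hg (by simpa using mul_mem (inv_mem ha) (cent_le_PM hc))
    rcases sig_rep hk' with rfl | ⟨-, rfl⟩ | ⟨h4, -⟩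
    · exact fixes u (Or.inl hu) hk'
    · refine fixes (v⁻¹ * u) (Or.inl (mul_mem (inv_mem hv) hu)) ?_
      calc v⁻¹ * u * g * rep 4 * (v⁻¹ * u * g)⁻¹ = v⁻¹ * (u * g * rep 4 * (u * g)⁻¹) * v := by group
        _ = v⁻¹ * (v * rep 4 * v⁻¹) * v := by rw [hk', e]
        _ = rep 4 := by group
    · exact absurd h4 (by decide)
  rcases sig_rep h with h' | ⟨rfl, rfl⟩ | ⟨rfl, rfl⟩
  · exact h'
  · exact absurd h (no46 w hw)
  · exact absurd (show w⁻¹ * rep 4 * w⁻¹⁻¹ = rep 6 by rw [← h]; group) (no46 w⁻¹ (inv_mem hw))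

/-! ### Subgroups -/

theorem negOne_not_mem : negOne ∉ Om := by
  intro h
  let f : O7 →* (ZMod 3)ˣ :=
    (Units.map (Matrix.detMonoidHom (n := Idx) (R := ZMod 3))).comp O7.subtype
  have h' : f negOne = 1 :=
    MonoidHom.mem_ker.mp (Abelianization.commutator_subset_ker f h)
  have := congrArg (Units.val) h'
  simp [f, negOne, Matrix.det_neg] at this
  revert this
  decide

theorem center_Om_bot : Subgroup.center Om = ⊥ := by
  obtain ⟨Q, hQ, hB⟩ := exists_quad
  have key : ∀ (f : (Idx → ZMod 3) → ZMod 3), ⇑Q = f →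
      (∀ g ∈ Cfsg.Omega (ZMod 3) f,
        ((g : GL Idx (ZMod 3)) : Matrix Idx Idx (ZMod 3)) = -1 → g = 1) →
      Subgroup.center (Cfsg.Omega (ZMod 3) f) = ⊥ := by
    rintro f rfl h
    exact Subgroup.card_eq_one.mp
      ((CfsgLib.Orth.card_center_omega hB (by rw [finrank_idx]; norm_num)).1 h)
  refine key form hQ fun g hg hm => absurd ?_ negOne_not_mem
  rwa [← show g = negOne from matOf_injective hm]

theorem classes_transport {A B : Type*} [Group A] [Group B] (φ : A ≃* B) (r : Fin 7 → A)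
    (h3 : ∀ i, orderOf (r i) = 3) (sq : ∀ i, ∃ w, w * (r i * r i) * w⁻¹ = r i)
    (sep : ∀ i j w, w * r i * w⁻¹ = r j → i = j)
    (all : ∀ x, orderOf x = 3 → ∃ i w, w * x * w⁻¹ = r i) :
    ∃ Y : Fin 7 → Subgroup B, (∀ i, Nat.card (Y i) = 3) ∧
      (∀ i j, (∃ g : B, (Y i).map (MulAut.conj g).toMonoidHom = Y j) → i = j) ∧
      (∀ X : Subgroup B, Nat.card X = 3 →
        ∃ i, ∃ g : B, X.map (MulAut.conj g).toMonoidHom = Y i) := by
  refine ⟨fun i => Subgroup.zpowers (φ (r i)), fun i => ?_, ?_, ?_⟩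
  · rw [Nat.card_zpowers, MulEquiv.orderOf_eq, h3]
  · rintro i j ⟨g, hg⟩
    obtain ⟨w, rfl⟩ := φ.surjective g
    dsimp only at hg
    have hmem : φ w * φ (r i) * (φ w)⁻¹ ∈ Subgroup.zpowers (φ (r j)) := by
      rw [← hg, MonoidHom.map_zpowers]
      exact Subgroup.mem_zpowers _
    rw [← map_mul, ← map_inv, ← map_mul] at hmem
    obtain ⟨n, hn⟩ := Subgroup.mem_zpowers_iff.mp hmem
    rw [← map_zpow] at hn
    have e : w * r i * w⁻¹ = r j ^ n := (φ.injective hn).symm
    rw [← zpow_mod_orderOf, h3] at e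
    have hlt : n % ((3 : ℕ) : ℤ) = 0 ∨ n % ((3 : ℕ) : ℤ) = 1 ∨ n % ((3 : ℕ) : ℤ) = 2 := by omega
    rcases hlt with h | h | h <;> rw [h] at e
    · rw [zpow_zero, conj_eq_one_iff] at e
      have := h3 i
      rw [e, orderOf_one] at this
      exact absurd this (by norm_num)
    · rw [zpow_one] at e
      exact sep i j w e
    · obtain ⟨u, hu⟩ := sq j
      refine sep i j (u * w) ?_
      rw [show (2 : ℤ) = ((2 : ℕ) : ℤ) from rfl, zpow_natCast, pow_two] at e
      calc u * w * r i * (u * w)⁻¹ = u * (w * r i * w⁻¹) * u⁻¹ := by group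
        _ = r j := by rw [e, hu]
  · intro X hX
    have : Fact (Nat.Prime 3) := ⟨Nat.prime_three⟩
    have : Finite X := Nat.finite_of_card_ne_zero (by omega)
    have : Nontrivial X := Finite.one_lt_card_iff_nontrivial.mp (by omega)
    obtain ⟨⟨x, hx⟩, hx1⟩ := exists_ne (1 : X)
    have ho : orderOf x = 3 := by
      rcases (Nat.dvd_prime Nat.prime_three).mp (hX ▸ Subgroup.orderOf_dvd_natCard X hx) with h | h
      · exact absurd (Subtype.ext (orderOf_eq_one_iff.mp h)) hx1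
      · exact h
    have hgen : Subgroup.zpowers x = X :=
      Subgroup.eq_of_le_of_card_ge (Subgroup.zpowers_le.mpr hx) (by rw [Nat.card_zpowers, ho, hX])
    obtain ⟨y, rfl⟩ := φ.surjective x
    rw [MulEquiv.orderOf_eq] at ho
    obtain ⟨i, w, e⟩ := all y ho
    refine ⟨i, φ w, ?_⟩
    rw [← hgen, MonoidHom.map_zpowers]
    congr 1
    simp [← e]

theorem order_three_classes :
    ∃ Y : Fin 7 → Subgroup (Cfsg.POmega (ZMod 3) form), (∀ i, Nat.card (Y i) = 3) ∧
      (∀ i j, (∃ g : Cfsg.POmega (ZMod 3) form,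
        (Y i).map (MulAut.conj g).toMonoidHom = Y j) → i = j) ∧
      (∀ X : Subgroup (Cfsg.POmega (ZMod 3) form), Nat.card X = 3 →
        ∃ i, ∃ g : Cfsg.POmega (ZMod 3) form, X.map (MulAut.conj g).toMonoidHom = Y i) := by
  have : Fact (Nat.Prime 3) := ⟨Nat.prime_three⟩
  let φ : Om ≃* Cfsg.POmega (ZMod 3) form :=
    MulEquiv.ofBijective (QuotientGroup.mk' (Subgroup.center Om))
      ⟨(MonoidHom.ker_eq_bot_iff _).mp (by rw [QuotientGroup.ker_mk', center_Om_bot]),
        QuotientGroup.mk'_surjective _⟩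
  refine classes_transport φ (fun i => ⟨rep i, rep_mem i⟩) (fun i => ?_) (fun i => ?_)
    (fun i j w h => rep_separated w.2 (congrArg Subtype.val h)) fun x hx => ?_
  · exact orderOf_eq_prime (Subtype.ext (rep_cube i))
      fun h => rep_ne_one i (congrArg Subtype.val h)
  · obtain ⟨w, hw, e⟩ := rep_sq i
    exact ⟨⟨w, hw⟩, Subtype.ext e⟩
  · have h3 : (x : O7) ^ 3 = 1 := by
      have := pow_orderOf_eq_one x
      rw [hx] at this
      exact congrArg Subtype.val this
    have h1 : (x : O7) ≠ 1 := fun h => by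
      rw [show x = 1 from Subtype.ext h, orderOf_one] at hx
      norm_num at hx
    obtain ⟨w, hw, k, e⟩ := complete x.2 h3 h1
    exact ⟨k, ⟨w, hw⟩, Subtype.ext e⟩

end CfsgLib.OmegaSeven
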