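import Cfsg.Agent.Lib.OmegaSeven.Defs

/-!
Kernel checks: the generators, the representatives, the invariants and the centralizer.
-/

set_option autoImplicit false
set_option Elab.async false
set_option maxHeartbeats 4000000

namespace CfsgLib.OmegaSeven

theorem sigs_eq : ((List.range 7).map fun i => sigC (rM i)) =
    [[243, 0, 0, 0], [243, 0, 1458, 0], [243, 1458, 0, 1458], [27, 486, 486, 486], [27, 1458, 0, 1458], [27, 972, 972, 972], [27, 1458, 0, 1458]] := by
  decide +kernel

end CfsgLib.OmegaSeven
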