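import Cfsg.Agent.Lib.OmegaSeven.Defs

/-!
Kernel checks: the generators, the representatives, the invariants and the centralizer.
-/

set_option autoImplicit false
set_option Elab.async false
set_option maxHeartbeats 4000000

namespace CfsgLib.OmegaSeven

theorem stage0 : stageB (rM 4) [] 729 cGen0 cOrb0 = true := by decide +kernel

end CfsgLib.OmegaSeven
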