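import Cfsg.Agent.Lib.OmegaSeven.Defs

/-!
Kernel checks: the generators, the representatives, the invariants and the centralizer.
-/

set_option autoImplicit false
set_option Elab.async false
set_option maxHeartbeats 4000000

namespace CfsgLib.OmegaSeven

theorem stage1 : stageB (rM 4) [729] 243 cGen1 cOrb1 = true := by decide +kernel

theorem stage2 : stageB (rM 4) [729, 243] 9 cGen2 cOrb2 = true := by decide +kernel

theorem basis_ok : (validB basisM && validB cBasisInv && mmul basisM cBasisInv == idM &&
    (List.range 7).all fun i => (List.range 7).all fun j =>
      dig basisM (7 * i + j) == vd (basisVecs.getD j 0) i) = true := by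
  decide +kernel

end CfsgLib.OmegaSeven
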