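import Cfsg.Agent.Lib.OmegaSeven.ChecksIso
import Cfsg.Agent.Lib.OmegaSeven.ChecksSig
import Cfsg.Agent.Lib.OmegaSeven.ChecksStage
import Cfsg.Agent.Lib.OmegaSeven.ChecksStageRest

/-!
Kernel checks: the generators, the representatives, the invariants and the centralizer.
-/
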