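import Cfsg.Agent.Lib.OmegaSeven.Defs

/-!
Kernel checks: the generators, the representatives, the invariants and the centralizer.
-/

set_option autoImplicit false
set_option Elab.async false
set_option maxHeartbeats 4000000

namespace CfsgLib.OmegaSeven

theorem gens_iso : ∀ k < 6, isoB (gM k) = true := by decide +kernel

theorem reps_iso : ∀ i < 7, (isoB (rM i) && isE (rM i)) = true := by decide +kernel

theorem id_code : uCode 0 = idM := by decide +kernel

theorem repSq_ok : ∀ i < 7, (Nat.blt (repSq.getD i 0) 19683 &&
    uCode (repSq.getD i 0) == mmul (rM i) (rM i) && fld (uRec (repSq.getD i 0)) 192 3 == i) = true := by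
  decide +kernel

end CfsgLib.OmegaSeven
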