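import Mathlib

/-!
Seven by seven matrices over the field with three elements as pairs of bit planes: bit `7 i + j` of
the first 49 bits marks an entry one, of the next 49 an entry two.
-/

set_option autoImplicit false

namespace CfsgLib.OmegaSeven

/-- one plane -/
def f49 : ℕ := 562949953421311

/-- bits `0, 7, ..., 42` -/
def cMask : ℕ := 4432676798593

/-- sum of two matrices -/
def add3 (a b : ℕ) : ℕ :=
  let a1 := a &&& f49
  let a2 := a >>> 49
  let b1 := b &&& f49
  let b2 := b >>> 49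
  let t := (a1 ||| b2) ^^^ (a2 ||| b1)
  ((a2 ||| b2) ^^^ t) ||| (((a1 ||| b1) ^^^ t) <<< 49)

/-- negative of a matrix -/
def neg3 (a : ℕ) : ℕ := (a >>> 49) ||| ((a &&& f49) <<< 49)

/-- the product of a column and a row -/
def outer (M N k : ℕ) : ℕ :=
  let c1 := ((M &&& f49) >>> k) &&& cMask
  let c2 := ((M >>> 49) >>> k) &&& cMask
  let r1 := ((N &&& f49) >>> (7 * k)) &&& 127
  let r2 := ((N >>> 49) >>> (7 * k)) &&& 127
  ((c1 * r1) ||| (c2 * r2)) ||| (((c1 * r2) ||| (c2 * r1)) <<< 49)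

/-- product of two matrices -/
def mmul (M N : ℕ) : ℕ :=
  add3 (add3 (add3 (add3 (add3 (add3 (outer M N 0) (outer M N 1)) (outer M N 2)) (outer M N 3))
    (outer M N 4)) (outer M N 5)) (outer M N 6)

/-- entry given by two bits -/
def tv : Bool → Bool → ℕ
  | true, _ => 1
  | false, true => 2
  | false, false => 0

/-- entry number `k` -/
def dig (M k : ℕ) : ℕ := tv (M.testBit k) (M.testBit (49 + k))

/-- bounded, with disjoint planes -/
def Valid (M : ℕ) : Prop :=
  M < 2 ^ 98 ∧ ∀ k < 49, (M.testBit k && M.testBit (49 + k)) = false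

/-- checking validity -/
def validB (M : ℕ) : Bool := decide (M < 316912650057057350374175801344) && (M &&& (M >>> 49)) == 0

theorem valid_of_validB {M : ℕ} (h : validB M = true) : Valid M := by
  simp only [validB, Bool.and_eq_true, decide_eq_true_eq, beq_iff_eq] at h
  refine ⟨by norm_num; exact h.1, fun k _ => ?_⟩
  have e := congrArg (fun n => n.testBit k) h.2
  simpa [Nat.testBit_and, Nat.testBit_shiftRight, Nat.add_comm] using e

theorem testBit_f49 (k : ℕ) : f49.testBit k = decide (k < 49) := by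
  rw [show f49 = 2 ^ 49 - 1 from rfl, Nat.testBit_two_pow_sub_one]

theorem plane1 (M k : ℕ) : (M &&& f49).testBit k = (M.testBit k && decide (k < 49)) := by
  rw [Nat.testBit_and, testBit_f49]

theorem plane2 (M k : ℕ) : (M >>> 49).testBit k = M.testBit (49 + k) := Nat.testBit_shiftRight M

theorem planes {a b k : ℕ} (ha : a < 2 ^ 49) (hk : k < 49) :
    (a ||| (b <<< 49)).testBit k = a.testBit k ∧
      (a ||| (b <<< 49)).testBit (49 + k) = b.testBit k := by
  rw [Nat.testBit_or, Nat.testBit_or, Nat.testBit_shiftLeft, Nat.testBit_shiftLeft]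
  constructor
  · simp [Nat.not_le.mpr hk]
  · simp [Nat.testBit_lt_two_pow (ha.trans_le (Nat.pow_le_pow_right two_pos (Nat.le_add_right 49 k)))]

theorem plane1_lt (M : ℕ) : M &&& f49 < 2 ^ 49 :=
  Nat.lt_of_le_of_lt Nat.and_le_right (by norm_num [f49])

theorem plane2_lt {M : ℕ} (h : M < 2 ^ 98) : M >>> 49 < 2 ^ 49 := by
  rw [Nat.shiftRight_eq_div_pow]
  exact Nat.div_lt_of_lt_mul (by rw [← pow_add]; exact h)

theorem shiftLeft_lt {b : ℕ} (hb : b < 2 ^ 49) : b <<< 49 < 2 ^ 98 := by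
  rw [Nat.shiftLeft_eq]
  calc b * 2 ^ 49 < 2 ^ 49 * 2 ^ 49 := Nat.mul_lt_mul_of_pos_right hb (Nat.two_pow_pos _)
    _ = 2 ^ 98 := by rw [← pow_add]

theorem add3_spec {a b : ℕ} (ha : Valid a) (hb : Valid b) :
    Valid (add3 a b) ∧ ∀ k < 49, dig (add3 a b) k = (dig a k + dig b k) % 3 := by
  have key : ∀ p q r s : Bool, (p && q) = false → (r && s) = false →
      (let t := xor (p || s) (q || r); let u := xor (q || s) t; let v := xor (p || r) t
       (u && v) = false ∧ tv u v = (tv p q + tv r s) % 3) := by decide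
  have l1 := plane1_lt a
  have l2 := plane2_lt ha.1
  have l3 := plane1_lt b
  have l4 := plane2_lt hb.1
  have lt_ : ∀ {x y : ℕ}, x < 2 ^ 49 → y < 2 ^ 49 → x ||| y < 2 ^ 49 ∧ x ^^^ y < 2 ^ 49 :=
    fun hx hy => ⟨Nat.or_lt_two_pow hx hy, Nat.xor_lt_two_pow hx hy⟩
  have lt := (lt_ (lt_ l1 l4).1 (lt_ l2 l3).1).2
  have lu := (lt_ (lt_ l2 l4).1 lt).2
  have lv := (lt_ (lt_ l1 l3).1 lt).2
  have bits : ∀ k < 49,
      ((add3 a b).testBit k && (add3 a b).testBit (49 + k)) = false ∧
        dig (add3 a b) k = (dig a k + dig b k) % 3 := by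
    intro k hk
    obtain ⟨e1, e2⟩ := planes (b := ((a &&& f49 ||| b &&& f49) ^^^
      ((a &&& f49 ||| b >>> 49) ^^^ (a >>> 49 ||| b &&& f49)))) lu hk
    unfold dig
    simp only [add3]
    rw [e1, e2]
    simp only [Nat.testBit_xor, Nat.testBit_or, plane1, plane2, decide_eq_true hk, Bool.and_true]
    exact key _ _ _ _ (ha.2 k hk) (hb.2 k hk)
  refine ⟨⟨Nat.or_lt_two_pow (lu.trans_le (Nat.pow_le_pow_right two_pos (by norm_num))) (shiftLeft_lt lv),
    fun k hk => (bits k hk).1⟩, fun k hk => (bits k hk).2⟩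

/-- number with the bits `0, 7, ...` as given -/
def spread (b : Fin 7 → Bool) : ℕ :=
  cond (b 0) 1 0 + cond (b 1) 128 0 + cond (b 2) 16384 0 + cond (b 3) 2097152 0 +
    cond (b 4) 268435456 0 + cond (b 5) 34359738368 0 + cond (b 6) 4398046511104 0

/-- the table of products -/
def prodOK : Bool :=
  (List.range 128).all fun c =>
    let s := spread fun i => c.testBit i.val
    decide (s < 562949953421312) &&
      ((List.range 49).all fun k => s.testBit k == (decide (k % 7 = 0) && c.testBit (k / 7))) &&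
      (List.range 128).all fun r =>
        decide (s * r < 562949953421312) &&
          (List.range 49).all fun k => (s * r).testBit k == (c.testBit (k / 7) && r.testBit (k % 7))

theorem prodOK_true : prodOK = true := by decide +kernel

theorem testBit_cMask (k : ℕ) (hk : k < 49) : cMask.testBit k = decide (k % 7 = 0) := by
  have : ∀ k < 49, cMask.testBit k = decide (k % 7 = 0) := by decide +kernel
  exact this k hk

theorem col_mul {x r : ℕ} (hr : r < 128) :
    (x &&& cMask) * r < 2 ^ 49 ∧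
      ∀ k < 49, ((x &&& cMask) * r).testBit k = (x.testBit (7 * (k / 7)) && r.testBit (k % 7)) := by
  obtain ⟨c, hc, hcb⟩ : ∃ c < 128, ∀ i : Fin 7, c.testBit i.val = x.testBit (7 * i.val) := by
    have : ∀ b0 b1 b2 b3 b4 b5 b6 : Bool, ∃ c : Fin 128,
        ∀ i : Fin 7, c.val.testBit i.val = [b0, b1, b2, b3, b4, b5, b6].getD i.val false := by
      decide +kernel
    obtain ⟨c, hc⟩ := this (x.testBit 0) (x.testBit 7) (x.testBit 14) (x.testBit 21) (x.testBit 28)
      (x.testBit 35) (x.testBit 42)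
    refine ⟨c, c.isLt, fun i => (hc i).trans ?_⟩
    fin_cases i <;> rfl
  have h := prodOK_true
  simp only [prodOK, List.all_eq_true, List.mem_range, Bool.and_eq_true, decide_eq_true_eq,
    beq_iff_eq] at h
  obtain ⟨⟨hs, hbit⟩, hmul⟩ := h c hc
  have e : x &&& cMask = spread fun i => c.testBit i.val := by
    refine Nat.eq_of_testBit_eq fun k => ?_
    rw [Nat.testBit_and]
    rcases Nat.lt_or_ge k 49 with hk | hk
    · rw [testBit_cMask k hk, hbit k hk]
      by_cases h7 : k % 7 = 0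
      · have := hcb ⟨k / 7, by omega⟩
        rw [show 7 * (k / 7) = k by omega] at this
        simp [h7, this]
      · simp [h7]
    · have hp : 2 ^ 49 ≤ 2 ^ k := Nat.pow_le_pow_right two_pos hk
      rw [Nat.testBit_lt_two_pow (show cMask < 2 ^ k from lt_of_lt_of_le (by norm_num [cMask]) hp),
        Nat.testBit_lt_two_pow (show (spread fun i => c.testBit i.val) < 2 ^ k from
          lt_of_lt_of_le (by norm_num; exact hs) hp), Bool.and_false]
  rw [e]
  refine ⟨by norm_num; exact (hmul r hr).1, fun k hk => ?_⟩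
  rw [(hmul r hr).2 k hk, hcb ⟨k / 7, by omega⟩]

theorem outer_spec {M N : ℕ} (hM : Valid M) (hN : Valid N) {j : ℕ} (hj : j < 7) :
    Valid (outer M N j) ∧
      ∀ k < 49, dig (outer M N j) k = dig M (7 * (k / 7) + j) * dig N (7 * j + k % 7) % 3 := by
  have key : ∀ p q r s : Bool, (p && q) = false → (r && s) = false →
      (let u := (p && r) || (q && s); let v := (p && s) || (q && r)
       (u && v) = false ∧ tv u v = tv p q * tv r s % 3) := by decide
  have hr : ∀ x : ℕ, x &&& 127 < 128 := fun x => Nat.lt_succ_of_le Nat.and_le_right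
  set c1 := ((M &&& f49) >>> j)
  set c2 := ((M >>> 49) >>> j)
  set r1 := ((N &&& f49) >>> (7 * j)) &&& 127
  set r2 := ((N >>> 49) >>> (7 * j)) &&& 127
  have m11 := col_mul (x := c1) (r := r1) (hr _)
  have m22 := col_mul (x := c2) (r := r2) (hr _)
  have m12 := col_mul (x := c1) (r := r2) (hr _)
  have m21 := col_mul (x := c2) (r := r1) (hr _)
  have lu := Nat.or_lt_two_pow m11.1 m22.1
  have lv := Nat.or_lt_two_pow m12.1 m21.1
  have bits : ∀ k < 49,
      ((outer M N j).testBit k && (outer M N j).testBit (49 + k)) = false ∧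
        dig (outer M N j) k = dig M (7 * (k / 7) + j) * dig N (7 * j + k % 7) % 3 := by
    intro k hk
    obtain ⟨e1, e2⟩ := planes (b := ((c1 &&& cMask) * r2 ||| (c2 &&& cMask) * r1)) lu hk
    have hi : 7 * (k / 7) + j < 49 := by omega
    have hi' : 7 * j + k % 7 < 49 := by omega
    unfold dig
    simp only [outer]
    rw [e1, e2, Nat.testBit_or, Nat.testBit_or, m11.2 k hk, m22.2 k hk,
      m12.2 k hk, m21.2 k hk]
    have h127 : (127 : ℕ).testBit (k % 7) = true := by
      rw [show (127 : ℕ) = 2 ^ 7 - 1 from rfl, Nat.testBit_two_pow_sub_one]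
      exact decide_eq_true (Nat.mod_lt _ (by norm_num))
    simp only [c1, c2, r1, r2, Nat.testBit_and, Nat.testBit_shiftRight, testBit_f49, h127, Bool.and_true]
    rw [Nat.add_comm j (7 * (k / 7))]
    simp only [decide_eq_true hi, decide_eq_true hi', Bool.and_true]
    exact key _ _ _ _ (hM.2 _ hi) (hN.2 _ hi')
  refine ⟨⟨Nat.or_lt_two_pow (lu.trans_le (Nat.pow_le_pow_right two_pos (by norm_num))) (shiftLeft_lt lv),
    fun k hk => (bits k hk).1⟩, fun k hk => (bits k hk).2⟩

theorem mmul_spec {M N : ℕ} (hM : Valid M) (hN : Valid N) :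
    Valid (mmul M N) ∧ ∀ i j : Fin 7, (dig (mmul M N) (7 * i + j) : ZMod 3) =
      ∑ k : Fin 7, (dig M (7 * i + k) : ZMod 3) * (dig N (7 * k + j) : ZMod 3) := by
  obtain ⟨v0, d0⟩ := outer_spec hM hN (j := 0) (by norm_num)
  obtain ⟨v1, d1⟩ := outer_spec hM hN (j := 1) (by norm_num)
  obtain ⟨v2, d2⟩ := outer_spec hM hN (j := 2) (by norm_num)
  obtain ⟨v3, d3⟩ := outer_spec hM hN (j := 3) (by norm_num)
  obtain ⟨v4, d4⟩ := outer_spec hM hN (j := 4) (by norm_num)
  obtain ⟨v5, d5⟩ := outer_spec hM hN (j := 5) (by norm_num)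
  obtain ⟨v6, d6⟩ := outer_spec hM hN (j := 6) (by norm_num)
  obtain ⟨s1, a1⟩ := add3_spec v0 v1
  obtain ⟨s2, a2⟩ := add3_spec s1 v2
  obtain ⟨s3, a3⟩ := add3_spec s2 v3
  obtain ⟨s4, a4⟩ := add3_spec s3 v4
  obtain ⟨s5, a5⟩ := add3_spec s4 v5
  obtain ⟨s6, a6⟩ := add3_spec s5 v6
  refine ⟨s6, fun i j => ?_⟩
  have hk : 7 * (i : ℕ) + j < 49 := by omega
  have e1 : (7 * (i : ℕ) + j) / 7 = i := by omega
  have e2 : (7 * (i : ℕ) + j) % 7 = j := by omega
  rw [mmul, a6 _ hk, a5 _ hk, a4 _ hk, a3 _ hk, a2 _ hk, a1 _ hk, d0 _ hk, d1 _ hk, d2 _ hk, d3 _ hk,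
    d4 _ hk, d5 _ hk, d6 _ hk, e1, e2]
  simp only [ZMod.natCast_mod, Nat.cast_add, Nat.cast_mul, Fin.sum_univ_seven]
  simp [mul_zero]

theorem neg3_spec {a : ℕ} (ha : Valid a) :
    Valid (neg3 a) ∧ ∀ k < 49, dig (neg3 a) k = 2 * dig a k % 3 := by
  have key : ∀ p q : Bool, (p && q) = false →
      (q && p) = false ∧ tv q p = 2 * tv p q % 3 := by decide
  have l2 := plane2_lt ha.1
  have bits : ∀ k < 49, ((neg3 a).testBit k && (neg3 a).testBit (49 + k)) = false ∧
      dig (neg3 a) k = 2 * dig a k % 3 := by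
    intro k hk
    obtain ⟨e1, e2⟩ := planes (b := (a &&& f49)) l2 hk
    unfold dig
    simp only [neg3]
    rw [e1, e2, plane2, plane1, decide_eq_true hk, Bool.and_true]
    exact key _ _ (ha.2 k hk)
  refine ⟨⟨Nat.or_lt_two_pow (l2.trans_le (Nat.pow_le_pow_right two_pos (by norm_num)))
    (shiftLeft_lt (plane1_lt a)), fun k hk => (bits k hk).1⟩, fun k hk => (bits k hk).2⟩

theorem valid_ext {M N : ℕ} (hM : Valid M) (hN : Valid N) (h : ∀ k < 49, dig M k = dig N k) : M = N := by
  have key : ∀ p q r s : Bool, (p && q) = false → (r && s) = false → tv p q = tv r s → p = r ∧ q = s := by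
    decide
  refine Nat.eq_of_testBit_eq fun k => ?_
  rcases Nat.lt_or_ge k 49 with hk | hk
  · exact (key _ _ _ _ (hM.2 k hk) (hN.2 k hk) (h k hk)).1
  rcases Nat.lt_or_ge k 98 with hk' | hk'
  · obtain ⟨m, rfl⟩ : ∃ m, k = 49 + m := ⟨k - 49, by omega⟩
    have hm : m < 49 := by omega
    exact (key _ _ _ _ (hM.2 m hm) (hN.2 m hm) (h m hm)).2
  · have hp : 2 ^ 98 ≤ 2 ^ k := Nat.pow_le_pow_right two_pos hk'
    rw [Nat.testBit_lt_two_pow (hM.1.trans_le hp), Nat.testBit_lt_two_pow (hN.1.trans_le hp)]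

end CfsgLib.OmegaSeven
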