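import Cfsg.Agent.Lib.OmegaSeven.Rep
import Cfsg.Agent.Lib.OmegaSeven.Data
import Cfsg.Agent.Lib.OmegaSeven.Table0
import Cfsg.Agent.Lib.OmegaSeven.Table1

/-!
The Boolean checks.
-/

set_option autoImplicit false

namespace CfsgLib.OmegaSeven

open CfsgLib.CosetEnum

/-- generator number `k` -/
def gM (k : ℕ) : ℕ := gensM.getD k idM

/-- representative number `i` -/
def rM (i : ℕ) : ℕ := reps.getD i idM

/-- record `i` -/
noncomputable def uRec (i : ℕ) : ℕ := (PTab.node uTab0 uTab1).at' 195 i

/-- code `i` -/
noncomputable def uCode (i : ℕ) : ℕ := uRec i % 2 ^ 98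

/-- field of a record -/
def fld (r off w : ℕ) : ℕ := (r >>> off) % 2 ^ w

/-- order three -/
def isE (c : ℕ) : Bool := c != idM && mmul c (mmul c c) == idM

/-- the check of record `i` -/
noncomputable def uOK (i : ℕ) : Bool :=
  strict i fun i => strict (uRec i) fun r => strict (r % 2 ^ 98) fun c =>
    validB c &&
    ((List.range 3).all fun a =>
      Nat.blt (fld r (98 + 15 * a) 15) 19683 && uCode (fld r (98 + 15 * a) 15) == mmul (gM a) c) &&
    (c == idM || (Nat.blt (fld r 143 15) 19683 && Nat.blt (fld r 158 2) 3 &&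
      Nat.blt (fld (uRec (fld r 143 15)) 160 6) (fld r 160 6) &&
      c == mmul (gM (fld r 158 2)) (uCode (fld r 143 15)))) &&
    (!isE c || (Nat.blt (fld r 192 3) 7 && (c == rM (fld r 192 3) ||
      (Nat.blt (fld r 169 15) 19683 && Nat.blt (fld r 166 3) 6 &&
        Nat.blt (fld (uRec (fld r 169 15)) 184 8) (fld r 184 8) &&
        fld (uRec (fld r 169 15)) 192 3 == fld r 192 3 && isE (uCode (fld r 169 15)) &&
        uCode (fld r 169 15) ==
          mmul (gM (fld r 166 3)) (mmul c (mmul (gM (fld r 166 3)) (gM (fld r 166 3)))))))) &&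
    (Nat.beq i 0 || Nat.blt (uCode (i - 1)) c)

/-- the check of record `i`, or nothing beyond the last record -/
noncomputable def uOK' (i : ℕ) : Bool := bif Nat.blt i 19683 then uOK i else true

/-- a product of generators -/
def wordM : List ℕ → ℕ
  | [] => idM
  | k :: w => mmul (gM k) (wordM w)

/-- a signed product -/
def cgM (p : ℕ × List ℕ) : ℕ := bif Nat.beq p.1 1 then mmul negM (wordM p.2) else wordM p.2

/-- zero or not -/
def nz (n : ℕ) : ℕ := bif Nat.beq n 0 then 0 else 1

/-- invariants of a vector for the centralizer of `x`, fixing the vectors of `F` -/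
def cKey (x : ℕ) (F : List ℕ) (v : ℕ) : List ℕ :=
  let xv := actV x v
  let d := subV xv v
  [qC v, bC v xv, nz (subV (actV x d) d), nz d] ++
    F.flatMap fun f => [bC v f, bC xv f, bC (actV x xv) f]

/-- the check of a stage -/
def stageB (x : ℕ) (F : List ℕ) (base : ℕ) (gs : List (ℕ × List ℕ))
    (orb : List (ℕ × ℕ × ℕ)) : Bool :=
  decide (base < 2187) &&
  (gs.all fun p => (p.2.all fun k => Nat.blt k 6) && mmul (cgM p) x == mmul x (cgM p) &&
    F.all fun f => decide (f < 2187) && actV (cgM p) f == f) &&
  ((List.range orb.length).all fun n =>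
    match orb[n]? with
    | some (pt, a, par) =>
      (Nat.beq n 0 && Nat.beq pt base) ||
        (Nat.blt par n && Nat.blt a gs.length &&
          pt == actV (cgM (gs.getD a (0, []))) (orb.getD par (0, 0, 0)).1)
    | none => false) &&
  (List.range 2187).all fun v =>
    cKey x F v != cKey x F base || (orb.map Prod.fst).contains v

/-- invariants of an element -/
def sigC (c : ℕ) : List ℕ :=
  [(List.range 2187).countP fun n => actV c n == n,
    (List.range 2187).countP fun n => qC (subV (actV c n) n) == 1,
    (List.range 2187).countP fun n => qC (subV (actV c n) n) == 2,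
    (List.range 2187).countP fun n =>
      let d := subV (actV c n) n
      bC n (subV (actV c d) d) == 1]

/-- the chosen basis vectors -/
def basisVecs : List ℕ :=
  cCols.map fun p => (List.range p.2).foldl (fun v _ => actV (rM 4) v) (cBase.getD p.1 0)

/-- the chosen basis as a matrix -/
def basisM : ℕ := (List.range 7).foldl (fun s j => s + (encV (basisVecs.getD j 0) <<< j)) 0

end CfsgLib.OmegaSeven
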