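import Cfsg.Prelude.Def_Classical
import Cfsg.Agent.Lib.OmegaSeven.Code
import Cfsg.Agent.Lib.Classical.OrthForms

/-!
Seven by seven matrices over three elements given by codes, as elements of the orthogonal group of
`x₀² + x₁y₁ + x₂y₂ + x₃y₃`.
-/

set_option autoImplicit false

namespace CfsgLib.OmegaSeven

open Matrix

/-- the index set -/
abbrev Idx : Type := Unit ⊕ (Fin 3 ⊕ Fin 3)

/-- the form -/
abbrev form : (Idx → ZMod 3) → ZMod 3 := Cfsg.quadFormOdd 3 (ZMod 3)

/-- the orthogonal group -/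
abbrev O7 : Subgroup (GL Idx (ZMod 3)) := Cfsg.isometryGroup (ZMod 3) form

/-- the coordinates in the order `x₀ x₁ x₂ c y₂ y₁ y₀` -/
def posIdx : Idx → Fin 7
  | .inl _ => 3
  | .inr (.inl i) => ⟨i.val, by omega⟩
  | .inr (.inr i) => ⟨6 - i.val, by omega⟩

/-- the coordinates -/
def idxAt : Fin 7 → Idx
  | 0 => .inr (.inl 0)
  | 1 => .inr (.inl 1)
  | 2 => .inr (.inl 2)
  | 3 => .inl ()
  | 4 => .inr (.inr 2)
  | 5 => .inr (.inr 1)
  | 6 => .inr (.inr 0)

/-- the coordinates as an equivalence -/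
def eI : Idx ≃ Fin 7 where
  toFun := posIdx
  invFun := idxAt
  left_inv := by decide
  right_inv := by decide

/-- matrix of a code -/
def toM (M : ℕ) : Matrix Idx Idx (ZMod 3) :=
  fun a b => (dig M (7 * (eI a).val + (eI b).val) : ZMod 3)

/-- digit of a vector -/
def vd (n i : ℕ) : ℕ := n / 3 ^ i % 3

/-- vector of an index -/
def toV (n : ℕ) : Idx → ZMod 3 := fun a => (vd n (eI a).val : ZMod 3)

/-- the identity -/
def idM : ℕ := 1 + 2 ^ 8 + 2 ^ 16 + 2 ^ 24 + 2 ^ 32 + 2 ^ 40 + 2 ^ 48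

/-- minus the identity -/
def negM : ℕ := idM <<< 49

theorem toM_mmul {M N : ℕ} (hM : Valid M) (hN : Valid N) :
    toM (mmul M N) = toM M * toM N := by
  ext a c
  rw [Matrix.mul_apply, ← eI.symm.sum_comp]
  simp only [toM, Equiv.apply_symm_apply]
  exact (mmul_spec hM hN).2 (eI a) (eI c)

theorem toM_neg3 {M : ℕ} (hM : Valid M) : toM (neg3 M) = -toM M := by
  ext a b
  simp only [toM, Matrix.neg_apply]
  rw [(neg3_spec hM).2 _ (by have := (eI a).isLt; have := (eI b).isLt; omega), ZMod.natCast_mod,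
    Nat.cast_mul]
  generalize (dig M _ : ZMod 3) = x
  revert x
  decide

theorem toM_idM : toM idM = 1 := by
  have : ∀ i j : Fin 7, dig idM (7 * i.val + j.val) = if i = j then 1 else 0 := by decide +kernel
  ext a b
  rw [toM, this, Matrix.one_apply]
  by_cases h : a = b <;> simp [h]

theorem dig_lt (M k : ℕ) : dig M k < 3 := by
  unfold dig
  generalize M.testBit k = p
  generalize M.testBit (49 + k) = q
  revert p q
  decide

theorem dig_inj {A B : ℕ} (hA : Valid A) (hB : Valid B) (h : ∀ k < 49, dig A k = dig B k) :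
    A = B := by
  have key : ∀ p q r s : Bool, (p && q) = false → (r && s) = false → tv p q = tv r s →
      p = r ∧ q = s := by decide
  refine Nat.eq_of_testBit_eq fun k => ?_
  by_cases h1 : k < 49
  · exact (key _ _ _ _ (hA.2 k h1) (hB.2 k h1) (h k h1)).1
  by_cases h2 : k < 98
  · obtain ⟨j, rfl⟩ : ∃ j, k = 49 + j := ⟨k - 49, by omega⟩
    exact (key _ _ _ _ (hA.2 j (by omega)) (hB.2 j (by omega)) (h j (by omega))).2
  · have hp : 2 ^ 98 ≤ 2 ^ k := Nat.pow_le_pow_right two_pos (by omega)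
    rw [Nat.testBit_lt_two_pow (hA.1.trans_le hp), Nat.testBit_lt_two_pow (hB.1.trans_le hp)]

theorem toM_inj {A B : ℕ} (hA : Valid A) (hB : Valid B) (h : toM A = toM B) : A = B := by
  refine dig_inj hA hB fun k hk => ?_
  have e := congrFun (congrFun h (eI.symm ⟨k / 7, by omega⟩)) (eI.symm ⟨k % 7, Nat.mod_lt _ (by norm_num)⟩)
  simp only [toM, Equiv.apply_symm_apply] at e
  rw [show 7 * (k / 7) + k % 7 = k by omega, ZMod.natCast_eq_natCast_iff'] at e
  rwa [Nat.mod_eq_of_lt (dig_lt _ _), Nat.mod_eq_of_lt (dig_lt _ _)] at e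

/-- a vector as the first column of a matrix -/
def encV (n : ℕ) : ℕ :=
  (List.range 7).foldl
    (fun s i => s + match vd n i with | 1 => 2 ^ (7 * i) | 2 => 2 ^ (49 + 7 * i) | _ => 0) 0

/-- index of the first column -/
def colIdx (C : ℕ) : ℕ :=
  dig C 0 + 3 * dig C 7 + 9 * dig C 14 + 27 * dig C 21 + 81 * dig C 28 + 243 * dig C 35 +
    729 * dig C 42

theorem vd_cons_zero {a : ℕ} (m : ℕ) (ha : a < 3) : vd (a + 3 * m) 0 = a := by
  simp only [vd, pow_zero, Nat.div_one]
  omega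

theorem vd_cons_succ {a : ℕ} (m i : ℕ) (ha : a < 3) : vd (a + 3 * m) (i + 1) = vd m i := by
  simp only [vd, pow_succ']
  rw [← Nat.div_div_eq_div_mul, show (a + 3 * m) / 3 = m by omega]

theorem vd_pack (d : Fin 7 → ℕ) (hd : ∀ i, d i < 3) (i : Fin 7) :
    vd (d 0 + 3 * d 1 + 9 * d 2 + 27 * d 3 + 81 * d 4 + 243 * d 5 + 729 * d 6) i.val = d i := by
  rw [show d 0 + 3 * d 1 + 9 * d 2 + 27 * d 3 + 81 * d 4 + 243 * d 5 + 729 * d 6 =
    d 0 + 3 * (d 1 + 3 * (d 2 + 3 * (d 3 + 3 * (d 4 + 3 * (d 5 + 3 * (d 6 + 3 * 0)))))) by ring]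
  fin_cases i <;> simp only [vd_cons_succ, vd_cons_zero, hd] <;> rfl

/-- action on vectors -/
def actV (M n : ℕ) : ℕ := colIdx (mmul M (encV n))

theorem encV_ok : ∀ n < 2187, validB (encV n) = true ∧
    ∀ i : Fin 7, dig (encV n) (7 * i.val) = vd n i.val := by decide +kernel

theorem colIdx_spec (C : ℕ) : colIdx C < 2187 ∧ ∀ i : Fin 7, vd (colIdx C) i.val = dig C (7 * i.val) := by
  have h0 := dig_lt C 0
  have h1 := dig_lt C 7
  have h2 := dig_lt C 14
  have h3 := dig_lt C 21
  have h4 := dig_lt C 28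
  have h5 := dig_lt C 35
  have h6 := dig_lt C 42
  exact ⟨by unfold colIdx; omega,
    fun i => vd_pack (fun i : Fin 7 => dig C (7 * i.val)) (fun i => dig_lt _ _) i⟩

theorem actV_lt (M n : ℕ) : actV M n < 2187 := (colIdx_spec _).1

theorem toV_actV {M n : ℕ} (hM : Valid M) (hn : n < 2187) :
    toV (actV M n) = toM M *ᵥ toV n := by
  funext a
  obtain ⟨hv, hd⟩ := encV_ok n hn
  have h := (mmul_spec hM (valid_of_validB hv)).2 (eI a) 0
  simp only [Fin.val_zero, Nat.add_zero] at h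
  rw [Matrix.mulVec, dotProduct, ← eI.symm.sum_comp, toV, actV, (colIdx_spec _).2 (eI a), h]
  simp only [toM, toV, Equiv.apply_symm_apply, hd]

theorem toV_surj (v : Idx → ZMod 3) : ∃ n < 2187, toV n = v := by
  let d : Fin 7 → ℕ := fun i => (v (eI.symm i)).val
  have hd : ∀ i, d i < 3 := fun i => ZMod.val_lt _
  refine ⟨d 0 + 3 * d 1 + 9 * d 2 + 27 * d 3 + 81 * d 4 + 243 * d 5 + 729 * d 6, ?_, ?_⟩
  · have := hd 0; have := hd 1; have := hd 2; have := hd 3; have := hd 4; have := hd 5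
    have := hd 6
    omega
  funext a
  obtain ⟨i, rfl⟩ := eI.symm.surjective a
  have key := vd_pack d hd i
  simp only [toV, Equiv.apply_symm_apply, key, d, ZMod.natCast_zmod_val]

theorem toV_inj {m n : ℕ} (hm : m < 2187) (hn : n < 2187) (h : toV m = toV n) : m = n := by
  have e : ∀ i : Fin 7, vd m i.val = vd n i.val := fun i => by
    have := congrFun h (eI.symm i)
    simp only [toV, Equiv.apply_symm_apply, ZMod.natCast_eq_natCast_iff'] at this
    simpa [vd] using this
  have := e 0; have := e 1; have := e 2; have := e 3; have := e 4; have := e 5; have := e 6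
  simp only [vd] at *
  norm_num at *
  omega

/-- the form on indices -/
def qC (n : ℕ) : ℕ := (vd n 3 * vd n 3 + vd n 0 * vd n 6 + vd n 1 * vd n 5 + vd n 2 * vd n 4) % 3

/-- the bilinear form on indices -/
def bC (u w : ℕ) : ℕ :=
  (2 * vd u 3 * vd w 3 + (vd u 0 * vd w 6 + vd w 0 * vd u 6) +
    (vd u 1 * vd w 5 + vd w 1 * vd u 5) + (vd u 2 * vd w 4 + vd w 2 * vd u 4)) % 3

/-- difference of two indices -/
def subV (u w : ℕ) : ℕ :=
  (vd u 0 + 2 * vd w 0) % 3 + 3 * ((vd u 1 + 2 * vd w 1) % 3) + 9 * ((vd u 2 + 2 * vd w 2) % 3) +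
    27 * ((vd u 3 + 2 * vd w 3) % 3) + 81 * ((vd u 4 + 2 * vd w 4) % 3) +
    243 * ((vd u 5 + 2 * vd w 5) % 3) + 729 * ((vd u 6 + 2 * vd w 6) % 3)

theorem form_toV (n : ℕ) : form (toV n) = (qC n : ZMod 3) := by
  rw [qC, ZMod.natCast_mod]
  simp only [Cfsg.quadFormOdd, Fin.sum_univ_three, toV, eI, Equiv.coe_fn_mk, posIdx]
  norm_num
  ring

theorem polar_toV (u w : ℕ) :
    QuadraticMap.polar form (toV u) (toV w) = (bC u w : ZMod 3) := by
  rw [bC, ZMod.natCast_mod, CfsgLib.Orth.polar_odd]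
  simp only [Fin.sum_univ_three, toV, eI, Equiv.coe_fn_mk, posIdx]
  norm_num
  ring

theorem subV_spec (u w : ℕ) : subV u w < 2187 ∧ toV (subV u w) = toV u - toV w := by
  refine ⟨by unfold subV; omega, ?_⟩
  funext a
  have key : ∀ i : Fin 7, vd (subV u w) i.val = (vd u i.val + 2 * vd w i.val) % 3 :=
    fun i => vd_pack (fun i : Fin 7 => (vd u i.val + 2 * vd w i.val) % 3)
      (fun i => Nat.mod_lt _ (by norm_num)) i
  simp only [toV, key, ZMod.natCast_mod, Nat.cast_add, Nat.cast_mul, Pi.sub_apply]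
  generalize (vd u (eI a).val : ZMod 3) = x
  generalize (vd w (eI a).val : ZMod 3) = y
  revert x y
  decide

/-- matrix of an element -/
def matOf (g : O7) : Matrix Idx Idx (ZMod 3) := ((g : GL Idx (ZMod 3)) : Matrix Idx Idx (ZMod 3))

theorem matOf_injective : Function.Injective matOf :=
  fun _ _ h => Subtype.ext (Units.ext h)

@[simp] theorem matOf_one : matOf 1 = 1 := rfl

theorem matOf_mul (g h : O7) : matOf (g * h) = matOf g * matOf h := rfl

/-- a code represents an element -/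
def Coded (g : O7) (c : ℕ) : Prop := Valid c ∧ toM c = matOf g

theorem Coded.mul {g h : O7} {a b : ℕ} (ha : Coded g a) (hb : Coded h b) :
    Coded (g * h) (mmul a b) :=
  ⟨(mmul_spec ha.1 hb.1).1, by rw [toM_mmul ha.1 hb.1, ha.2, hb.2, matOf_mul]⟩

theorem validB_idM : validB idM = true := by decide +kernel

theorem coded_one : Coded 1 idM := ⟨valid_of_validB validB_idM, by simp [toM_idM]⟩

theorem Coded.code_eq {g : O7} {a b : ℕ} (ha : Coded g a) (hb : Coded g b) : a = b :=
  toM_inj ha.1 hb.1 (ha.2.trans hb.2.symm)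

theorem Coded.eq {g h : O7} {a : ℕ} (ha : Coded g a) (hb : Coded h a) : g = h :=
  matOf_injective (ha.2.symm.trans hb.2)

theorem Coded.act {g : O7} {a n : ℕ} (ha : Coded g a) (hn : n < 2187) :
    matOf g *ᵥ toV n = toV (actV a n) := by
  rw [toV_actV ha.1 hn, ha.2]

/-- the check that a code is an isometry of order dividing three -/
def isoB (c : ℕ) : Bool :=
  validB c && mmul c (mmul c c) == idM &&
    (List.range 2187).all fun n => qC (actV c n) == qC n

theorem exists_coded {c : ℕ} (h : isoB c = true) : ∃ g : O7, Coded g c ∧ g ^ 3 = 1 := by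
  simp only [isoB, Bool.and_eq_true, beq_iff_eq, List.all_eq_true, List.mem_range] at h
  obtain ⟨⟨hv, h3⟩, hq⟩ := h
  have v := valid_of_validB hv
  have v2 := (mmul_spec v v).1
  have e : toM c * (toM c * toM c) = 1 := by
    rw [← toM_mmul v v, ← toM_mmul v v2, h3, toM_idM]
  have e' : (toM c * toM c) * toM c = 1 := by rw [mul_assoc]; exact e
  let u : GL Idx (ZMod 3) := ⟨toM c, toM c * toM c, e, e'⟩
  have hmem : u ∈ O7 := fun x y => by
    obtain ⟨n, hn, rfl⟩ := toV_surj x
    show form (toM c *ᵥ toV n) = form (toV n)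
    rw [← toV_actV v hn, form_toV, form_toV, hq n hn]
  refine ⟨⟨u, hmem⟩, ⟨v, rfl⟩, matOf_injective ?_⟩
  rw [pow_succ, pow_two, matOf_mul, matOf_mul]
  exact e'

theorem form_matOf (g : O7) (v : Idx → ZMod 3) : form (matOf g *ᵥ v) = form v := g.2 v v

theorem polar_matOf (g : O7) (v w : Idx → ZMod 3) :
    QuadraticMap.polar form (matOf g *ᵥ v) (matOf g *ᵥ w) = QuadraticMap.polar form v w := by
  simp only [QuadraticMap.polar, ← Matrix.mulVec_add, form_matOf]

/-- minus one -/
def negOne : O7 :=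
  ⟨-1, fun x y => by
    show form ((-1 : Matrix Idx Idx (ZMod 3)) *ᵥ x) = form x
    simp [Matrix.neg_mulVec, Cfsg.quadFormOdd]⟩

theorem matOf_negOne : matOf negOne = -1 := rfl

theorem negOne_mul_negOne : negOne * negOne = 1 :=
  matOf_injective (by simp [matOf_mul, matOf_negOne])

theorem negOne_comm (g : O7) : negOne * g = g * negOne :=
  matOf_injective (by simp [matOf_mul, matOf_negOne])

theorem coded_negOne : Coded negOne negM := by
  refine ⟨valid_of_validB (by decide +kernel), ?_⟩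
  rw [matOf_negOne, ← toM_idM, ← toM_neg3 (valid_of_validB validB_idM)]
  congr 1

end CfsgLib.OmegaSeven
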